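import Groth.Prelude.Def_CGrpSh3
import Groth.Prelude.Def_GmPts
import Mathlib.RingTheory.Norm.Basic
import Mathlib.LinearAlgebra.Charpoly.BaseChange
import Mathlib.AlgebraicGeometry.Morphisms.Flat
import Mathlib.AlgebraicGeometry.Morphisms.Finite

/-! The norm map of a finite locally free morphism on the multiplicative group. -/

set_option autoImplicit false

universe u

open CategoryTheory CategoryTheory.Limits AlgebraicGeometry TopologicalSpace Opposite
open scoped CategoryTheory.MonObj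

namespace Groth.Agent.NormMap

theorem norm_algebraMap_of_isPushout {R S R' S' : Type u} [CommRing R] [CommRing S] [CommRing R']
    [CommRing S'] [Algebra R S] [Algebra R R'] [Algebra S S'] [Algebra R' S'] [Algebra R S']
    [IsScalarTower R S S'] [IsScalarTower R R' S'] [Algebra.IsPushout R S R' S']
    [Module.Free R R'] [Module.Finite R R'] (x : R') :
    Algebra.norm S (algebraMap R' S' x) = algebraMap R S (Algebra.norm R x) := by
  have he : Algebra.IsPushout.equiv R S R' S' ((1 : S) ⊗ₜ[R] x) = algebraMap R' S' x := by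
    rw [Algebra.IsPushout.equiv_tmul, map_one, _root_.one_mul]
  rw [← he, Algebra.norm_eq_of_algEquiv, Algebra.norm_apply, Algebra.norm_apply,
    ← Algebra.baseChange_lmul, LinearMap.det_baseChange]

section

variable {X X' : Scheme.{u}} (f : X' ⟶ X)

/-- The scheme `T ×_X X'`. -/
noncomputable abbrev P (T : Over X) : Scheme.{u} := ((Over.pullback f).obj T).left

/-- The first projection `T ×_X X' ⟶ T`. -/
noncomputable abbrev pr (T : Over X) : P f T ⟶ T.left := pullback.fst T.hom f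

/-- The map `T₁ ×_X X' ⟶ T₂ ×_X X'`. -/
noncomputable abbrev pm {T₁ T₂ : Over X} (ρ : T₁ ⟶ T₂) : P f T₁ ⟶ P f T₂ :=
  ((Over.pullback f).map ρ).left

@[reducible] noncomputable def alg (T : Over X) : Algebra Γ(T.left, ⊤) Γ(P f T, ⊤) :=
  (pr f T).appTop.hom.toAlgebra

/-- Affine test objects with finite free functions. -/
def IsFree (T : Over X) : Prop :=
  letI := alg f T
  IsAffine T.left ∧ Module.Finite Γ(T.left, ⊤) Γ(P f T, ⊤) ∧ Module.Free Γ(T.left, ⊤) Γ(P f T, ⊤)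

/-- The determinant of multiplication. -/
noncomputable def nrm (T : Over X) (a : Γ(P f T, ⊤)) : Γ(T.left, ⊤) :=
  letI := alg f T
  Algebra.norm Γ(T.left, ⊤) a

theorem pm_fst {T₁ T₂ : Over X} (ρ : T₁ ⟶ T₂) : pm f ρ ≫ pr f T₂ = pr f T₁ ≫ ρ.left := by
  dsimp only [pm, pr, Over.pullback]
  exact pullback.lift_fst _ _ _

theorem pm_snd {T₁ T₂ : Over X} (ρ : T₁ ⟶ T₂) :
    pm f ρ ≫ pullback.snd T₂.hom f = pullback.snd T₁.hom f := by
  dsimp only [pm, Over.pullback]
  exact pullback.lift_snd _ _ _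

theorem isPullback_pm {T₁ T₂ : Over X} (ρ : T₁ ⟶ T₂) :
    IsPullback (pr f T₁) (pm f ρ) ρ.left (pr f T₂) := by
  refine (IsPullback.of_right ?_ (pm_fst f ρ) (IsPullback.of_hasPullback T₂.hom f).flip).flip
  rw [pm_snd, Over.w ρ]
  exact (IsPullback.of_hasPullback _ _).flip

theorem pm_appTop {T₁ T₂ T₃ : Over X} (ρ : T₁ ⟶ T₂) (σ : T₂ ⟶ T₃) (a : Γ(P f T₃, ⊤)) :
    (pm f (ρ ≫ σ)).appTop a = (pm f ρ).appTop ((pm f σ).appTop a) := by
  have h : pm f (ρ ≫ σ) = pm f ρ ≫ pm f σ := by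
    rw [pm, pm, pm, ← Over.comp_left, ← Functor.map_comp]
  rw [h, GmPts.appTop_comp_apply]

theorem pm_id (T : Over X) (a : Γ(P f T, ⊤)) : (pm f (𝟙 T)).appTop a = a := by
  have h : pm f (𝟙 T) = 𝟙 (P f T) := by
    rw [pm, CategoryTheory.Functor.map_id]; rfl
  rw [h]; rfl

variable [IsFinite f]

theorem nrm_map {T₁ T₂ : Over X} (ρ : T₁ ⟶ T₂) (h₁ : IsFree f T₁) (h₂ : IsFree f T₂)
    (a : Γ(P f T₂, ⊤)) : nrm f T₁ ((pm f ρ).appTop a) = ρ.left.appTop (nrm f T₂ a) := by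
  obtain ⟨ha₁, -, -⟩ := h₁
  obtain ⟨ha₂, hfin, hfree⟩ := h₂
  haveI := ha₁
  haveI := ha₂
  haveI : IsAffine (P f T₂) := isAffine_of_isAffineHom (pr f T₂)
  letI := alg f T₁
  letI := alg f T₂
  haveI := hfin
  haveI := hfree
  letI : Algebra Γ(T₂.left, ⊤) Γ(T₁.left, ⊤) := ρ.left.appTop.hom.toAlgebra
  letI : Algebra Γ(P f T₂, ⊤) Γ(P f T₁, ⊤) := (pm f ρ).appTop.hom.toAlgebra
  letI : Algebra Γ(T₂.left, ⊤) Γ(P f T₁, ⊤) := (pr f T₁ ≫ ρ.left).appTop.hom.toAlgebra
  haveI : IsScalarTower Γ(T₂.left, ⊤) Γ(T₁.left, ⊤) Γ(P f T₁, ⊤) :=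
    IsScalarTower.of_algebraMap_eq' (by
      show (pr f T₁ ≫ ρ.left).appTop.hom = (pr f T₁).appTop.hom.comp ρ.left.appTop.hom
      rw [Scheme.Hom.comp_appTop]; rfl)
  haveI : IsScalarTower Γ(T₂.left, ⊤) Γ(P f T₂, ⊤) Γ(P f T₁, ⊤) :=
    IsScalarTower.of_algebraMap_eq' (by
      show (pr f T₁ ≫ ρ.left).appTop.hom = (pm f ρ).appTop.hom.comp (pr f T₂).appTop.hom
      rw [← pm_fst, Scheme.Hom.comp_appTop]; rfl)
  haveI : Algebra.IsPushout Γ(T₂.left, ⊤) Γ(T₁.left, ⊤) Γ(P f T₂, ⊤) Γ(P f T₁, ⊤) :=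
    CommRingCat.isPushout_iff_isPushout.mp (isPushout_appTop_of_isPullback (isPullback_pm f ρ))
  exact norm_algebraMap_of_isPushout a

/-- The restriction of a test object to an open. -/
abbrev restr (T : Over X) (U : T.left.Opens) : Over X := Over.mk (U.ι ≫ T.hom)

/-- The inclusion of the restriction. -/
abbrev incl (T : Over X) (U : T.left.Opens) : restr T U ⟶ T := Over.homMk U.ι rfl

/-- The inclusion of restrictions. -/
noncomputable abbrev restrMap (T : Over X) {U V : T.left.Opens} (e : U ≤ V) :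
    restr T U ⟶ restr T V :=
  Over.homMk (T.left.homOfLE e) (Scheme.homOfLE_ι_assoc T.left e T.hom)

theorem restrMap_incl (T : Over X) {U V : T.left.Opens} (e : U ≤ V) :
    restrMap T e ≫ incl T V = incl T U :=
  Over.OverMorphism.ext (Scheme.homOfLE_ι T.left e)

variable [Flat f] [IsLocallyNoetherian X]

theorem exists_isFree (T : Over X) (p : T.left) (W : T.left.Opens) (hp : p ∈ W) :
    ∃ U : T.left.Opens, p ∈ U ∧ U ≤ W ∧ IsFree f (restr T U) := by
  let x := T.hom p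
  obtain ⟨(V : X.Opens), hV, hxV, -⟩ := Opens.isBasis_iff_nbhd.mp X.isBasis_affineOpens (Opens.mem_top x)
  haveI : IsAffine (V : Scheme.{u}) := hV
  haveI : IsAffine (f ⁻¹ᵁ V : Scheme.{u}) := hV.preimage f
  let A := Γ((V : Scheme.{u}), ⊤)
  let M := Γ((f ⁻¹ᵁ V : Scheme.{u}), ⊤)
  haveI : IsFinite (f ∣_ V) := MorphismProperty.of_isPullback (isPullback_morphismRestrict f V).flip ‹IsFinite f›
  haveI : Flat (f ∣_ V) := MorphismProperty.of_isPullback (isPullback_morphismRestrict f V).flip ‹Flat f›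
  letI : Algebra A M := (f ∣_ V).appTop.hom.toAlgebra
  haveI : Module.Finite A M := (f ∣_ V).finite_appTop
  haveI : Module.Flat A M := (f ∣_ V).flat_appTop
  haveI : IsNoetherianRing A := by
    haveI : IsLocallyNoetherian (V : Scheme.{u}) := inferInstance
    exact IsLocallyNoetherian.component_noetherian ⟨⊤, isAffineOpen_top _⟩
  haveI : Module.FinitePresentation A M := Module.finitePresentation_of_finite A M
  let q : PrimeSpectrum A := (V : Scheme.{u}).isoSpec.hom ⟨x, hxV⟩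
  haveI : Module.Free (Localization.AtPrime q.asIdeal) (LocalizedModule q.asIdeal.primeCompl M) :=
    Module.free_of_flat_of_isLocalRing
  obtain ⟨r, hr, hr', -⟩ := Module.FinitePresentation.exists_free_localizedModule_powers
    q.asIdeal.primeCompl (LocalizedModule.mkLinearMap q.asIdeal.primeCompl M)
    (Localization.AtPrime q.asIdeal)
  have hxr : x ∈ V.ι ''ᵁ (V : Scheme.{u}).basicOpen r := by
    refine ⟨⟨x, hxV⟩, ?_, rfl⟩
    rw [← Scheme.toSpecΓ_preimage_basicOpen]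
    exact hr
  obtain ⟨(U : T.left.Opens), hU, hpU, hUle'⟩ := Opens.isBasis_iff_nbhd.mp T.left.isBasis_affineOpens
    (show p ∈ W ⊓ T.hom ⁻¹ᵁ (V.ι ''ᵁ (V : Scheme.{u}).basicOpen r) from ⟨hp, hxr⟩)
  have hUle : U ≤ T.hom ⁻¹ᵁ (V.ι ''ᵁ (V : Scheme.{u}).basicOpen r) := le_trans hUle' inf_le_right
  refine ⟨U, hpU, le_trans hUle' inf_le_left, ?_⟩
  haveI : IsAffine (U : Scheme.{u}) := hU
  let u : (U : Scheme.{u}) ⟶ (V : Scheme.{u}) :=
    IsOpenImmersion.lift V.ι (U.ι ≫ T.hom) (by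
      rintro _ ⟨w, rfl⟩
      obtain ⟨z, -, hz⟩ := hUle w.2
      exact ⟨z, hz⟩)
  have hu' : u ≫ V.ι = U.ι ≫ T.hom := IsOpenImmersion.lift_fac _ _ _
  have hu : IsUnit (u.appTop r) := by
    refine RingedSpace.isUnit_of_isUnit_germ (U : Scheme.{u}).toLocallyRingedSpace.toRingedSpace ⊤ _
      fun w _ => ?_
    refine (Scheme.mem_basicOpen_top (X := (U : Scheme.{u})) _ w).1 ?_
    rw [← Scheme.preimage_basicOpen_top]
    obtain ⟨z, hz, hze⟩ := hUle w.2
    have h' : V.ι (u w) = V.ι z := by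
      rw [← Scheme.Hom.comp_apply, hu']
      exact hze.symm
    show u w ∈ (V : Scheme.{u}).basicOpen r
    rw [V.ι.isOpenEmbedding.injective h']
    exact hz
  suffices h : IsFree f (Over.mk (u ≫ V.ι)) by rw [hu'] at h; exact h
  let e := pullback.fst (u ≫ V.ι) f
  letI : Algebra Γ(U, ⊤) Γ(pullback (u ≫ V.ι) f, ⊤) := e.appTop.hom.toAlgebra
  let g : pullback (u ≫ V.ι) f ⟶ (f ⁻¹ᵁ V : Scheme.{u}) := (isPullback_morphismRestrict f V).lift
    (e ≫ u) (pullback.snd _ _) (by rw [Category.assoc, pullback.condition])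
  have hg1 : g ≫ (f ∣_ V) = e ≫ u := IsPullback.lift_fst _ _ _ _
  have hg2 : g ≫ (f ⁻¹ᵁ V).ι = pullback.snd _ _ := IsPullback.lift_snd _ _ _ _
  have hP : IsPullback e g u (f ∣_ V) := by
    refine (IsPullback.of_right ?_ hg1 (isPullback_morphismRestrict f V).flip).flip
    rw [hg2]
    exact (IsPullback.of_hasPullback _ _).flip
  letI : Algebra A Γ(U, ⊤) := u.appTop.hom.toAlgebra
  letI : Algebra M Γ(pullback (u ≫ V.ι) f, ⊤) := g.appTop.hom.toAlgebra
  letI : Algebra A Γ(pullback (u ≫ V.ι) f, ⊤) := (g ≫ (f ∣_ V)).appTop.hom.toAlgebra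
  haveI : IsScalarTower A M Γ(pullback (u ≫ V.ι) f, ⊤) := IsScalarTower.of_algebraMap_eq' (by
    show (g ≫ (f ∣_ V)).appTop.hom = g.appTop.hom.comp (f ∣_ V).appTop.hom
    rw [Scheme.Hom.comp_appTop]; rfl)
  haveI : IsScalarTower A Γ(U, ⊤) Γ(pullback (u ≫ V.ι) f, ⊤) := IsScalarTower.of_algebraMap_eq' (by
    show (g ≫ (f ∣_ V)).appTop.hom = e.appTop.hom.comp u.appTop.hom
    rw [hg1, Scheme.Hom.comp_appTop]; rfl)
  haveI hpo : Algebra.IsPushout A Γ(U, ⊤) M Γ(pullback (u ≫ V.ι) f, ⊤) :=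
    CommRingCat.isPushout_iff_isPushout.mp (isPushout_appTop_of_isPullback hP)
  letI : Algebra (Localization.Away r) Γ(U, ⊤) := (IsLocalization.Away.lift r hu).toAlgebra
  haveI : IsScalarTower A (Localization.Away r) Γ(U, ⊤) :=
    IsScalarTower.of_algebraMap_eq fun a => (IsLocalization.Away.lift_eq r hu a).symm
  haveI : Module.Free (Localization.Away r) (TensorProduct A (Localization.Away r) M) :=
    Module.Free.of_equiv (IsLocalizedModule.isBaseChange (Submonoid.powers r) (Localization.Away r)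
      (LocalizedModule.mkLinearMap (Submonoid.powers r) M)).equiv.symm
  haveI : Module.Free Γ(U, ⊤) (TensorProduct A Γ(U, ⊤) M) :=
    Module.Free.of_equiv (TensorProduct.AlgebraTensorModule.cancelBaseChange A (Localization.Away r)
      Γ(U, ⊤) Γ(U, ⊤) M)
  have h1 : Module.Finite Γ(U, ⊤) Γ(pullback (u ≫ V.ι) f, ⊤) := Module.Finite.equiv hpo.out.equiv
  have h2 : Module.Free Γ(U, ⊤) Γ(pullback (u ≫ V.ι) f, ⊤) := Module.Free.of_equiv hpo.out.equiv
  exact ⟨hU, h1, h2⟩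

/-- The free opens of a test object. -/
abbrev FreeOpens (T : Over X) : Type u := {U : T.left.Opens // IsFree f (restr T U)}

theorem image_top_eq {Y : Scheme.{u}} (U : Y.Opens) : U.ι ''ᵁ ⊤ = U := U.ι_image_top

theorem ext_of_free (T : Over X) (s t : Γ(T.left, ⊤))
    (h : ∀ U : FreeOpens f T, (incl T U.1).left.appTop s = (incl T U.1).left.appTop t) : s = t := by
  refine T.left.sheaf.eq_of_locally_eq' (fun U : FreeOpens f T => U.1.ι ''ᵁ ⊤) ⊤
    (fun U => homOfLE le_top) (fun p _ => ?_) s t h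
  obtain ⟨U, hpU, -, hU⟩ := exists_isFree f T p ⊤ trivial
  rw [Opens.mem_iSup]
  exact ⟨⟨U, hU⟩, by rw [image_top_eq]; exact hpU⟩

theorem exists_glue (T : Over X) (a : Γ(P f T, ⊤)) : ∃ s : Γ(T.left, ⊤), ∀ U : FreeOpens f T,
    (incl T U.1).left.appTop s = nrm f (restr T U.1) ((pm f (incl T U.1)).appTop a) := by
  let sf : (U : FreeOpens f T) → T.left.presheaf.obj (op (U.1.ι ''ᵁ ⊤)) := fun U =>
    nrm f (restr T U.1) ((pm f (incl T U.1)).appTop a)
  have key : ∀ (W U : FreeOpens f T) (e : W.1 ≤ U.1),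
      T.left.presheaf.map (homOfLE ((U.1.ι_image_top).symm ▸ (W.1.ι_image_top).symm ▸ e :
        W.1.ι ''ᵁ ⊤ ≤ U.1.ι ''ᵁ ⊤)).op (sf U) = sf W := by
    intro W U e
    have h := nrm_map f (restrMap T e) W.2 U.2 ((pm f (incl T U.1)).appTop a)
    rw [← pm_appTop, restrMap_incl] at h
    refine Eq.trans ?_ h.symm
    show _ = (T.left.homOfLE e).appTop (sf U)
    rw [Scheme.homOfLE_appTop]
    rfl
  have hc : TopCat.Presheaf.IsCompatible T.left.sheaf.1 (fun U : FreeOpens f T => U.1.ι ''ᵁ ⊤) sf := by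
    intro U V
    refine T.left.sheaf.eq_of_locally_eq'
      (fun W : {W : FreeOpens f T // W.1 ≤ U.1 ∧ W.1 ≤ V.1} => W.1.1.ι ''ᵁ ⊤) _
      (fun W => homOfLE (le_inf
        (((image_top_eq W.1.1).le.trans W.2.1).trans (image_top_eq U.1).ge)
        (((image_top_eq W.1.1).le.trans W.2.2).trans (image_top_eq V.1).ge))) ?_ _ _ fun W => ?_
    · intro p hp
      have hp' : p ∈ U.1 ⊓ V.1 := by
        rw [← image_top_eq U.1, ← image_top_eq V.1]; exact hp
      obtain ⟨W, hpW, hWle, hW⟩ := exists_isFree f T p _ hp'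
      rw [Opens.mem_iSup]
      exact ⟨⟨⟨W, hW⟩, le_trans hWle inf_le_left, le_trans hWle inf_le_right⟩, by
        rw [image_top_eq]; exact hpW⟩
    · show (T.left.presheaf.map _ ≫ T.left.presheaf.map _) (sf U) =
        (T.left.presheaf.map _ ≫ T.left.presheaf.map _) (sf V)
      rw [← Functor.map_comp, ← Functor.map_comp]
      exact (key W.1 U W.2.1).trans (key W.1 V W.2.2).symm
  obtain ⟨s, hs, -⟩ := T.left.sheaf.existsUnique_gluing' (fun U : FreeOpens f T => U.1.ι ''ᵁ ⊤) ⊤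
    (fun U => homOfLE le_top) (fun p _ => by
      obtain ⟨U, hpU, -, hU⟩ := exists_isFree f T p ⊤ trivial
      rw [Opens.mem_iSup]
      exact ⟨⟨U, hU⟩, by rw [image_top_eq]; exact hpU⟩) sf hc
  exact ⟨s, hs⟩

/-- The norm of a function on `T ×_X X'`. -/
noncomputable def nm (T : Over X) (a : Γ(P f T, ⊤)) : Γ(T.left, ⊤) := (exists_glue f T a).choose

theorem nm_incl (T : Over X) (a : Γ(P f T, ⊤)) (U : FreeOpens f T) :
    (incl T U.1).left.appTop (nm f T a) = nrm f (restr T U.1) ((pm f (incl T U.1)).appTop a) :=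
  (exists_glue f T a).choose_spec U

theorem nm_map_free {W T : Over X} (ρ : W ⟶ T) (hW : IsFree f W) (a : Γ(P f T, ⊤)) :
    ρ.left.appTop (nm f T a) = nrm f W ((pm f ρ).appTop a) := by
  have hcov : ∀ p : W.left, ∃ (U : FreeOpens f T) (W' : FreeOpens f W),
      p ∈ W'.1 ∧ W'.1 ≤ ρ.left ⁻¹ᵁ U.1 := by
    intro p
    obtain ⟨U, hU, -, hU'⟩ := exists_isFree f T (ρ.left p) ⊤ trivial
    obtain ⟨W', hW', hle, hW''⟩ := exists_isFree f W p (ρ.left ⁻¹ᵁ U) hU
    exact ⟨⟨U, hU'⟩, ⟨W', hW''⟩, hW', hle⟩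
  choose U W' hpW' hle using hcov
  refine W.left.sheaf.eq_of_locally_eq' (fun p : W.left => (W' p).1.ι ''ᵁ ⊤) ⊤
    (fun p => homOfLE le_top) (fun p _ => ?_) _ _ fun p => ?_
  · rw [Opens.mem_iSup]
    exact ⟨p, by rw [image_top_eq]; exact hpW' p⟩
  · show (incl W (W' p).1).left.appTop (ρ.left.appTop (nm f T a)) =
      (incl W (W' p).1).left.appTop (nrm f W ((pm f ρ).appTop a))
    let j : restr W (W' p).1 ⟶ restr T (U p).1 :=
      Over.homMk (IsOpenImmersion.lift (U p).1.ι ((W' p).1.ι ≫ ρ.left) (by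
        rintro _ ⟨w, rfl⟩
        rw [Scheme.Opens.range_ι]
        exact hle p w.2)) (by
        show IsOpenImmersion.lift _ _ _ ≫ (U p).1.ι ≫ T.hom = _
        rw [IsOpenImmersion.lift_fac_assoc, Category.assoc, Over.w ρ]; rfl)
    have hj : j ≫ incl T (U p).1 = incl W (W' p).1 ≫ ρ :=
      Over.OverMorphism.ext (IsOpenImmersion.lift_fac _ _ _)
    rw [← nrm_map f (incl W (W' p).1) (W' p).2 hW, ← pm_appTop, ← GmPts.appTop_comp_apply,
      ← Over.comp_left, ← hj, pm_appTop, Over.comp_left, GmPts.appTop_comp_apply, nm_incl,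
      nrm_map f j (W' p).2 (U p).2]

theorem nm_map {T₁ T₂ : Over X} (g : T₁ ⟶ T₂) (a : Γ(P f T₂, ⊤)) :
    g.left.appTop (nm f T₂ a) = nm f T₁ ((pm f g).appTop a) := by
  refine ext_of_free f T₁ _ _ fun U => ?_
  rw [← GmPts.appTop_comp_apply, ← Over.comp_left, nm_map_free f (incl T₁ U.1 ≫ g) U.2, pm_appTop,
    nm_incl]

theorem nm_one (T : Over X) : nm f T 1 = 1 := by
  refine ext_of_free f T _ _ fun U => ?_
  rw [nm_incl, map_one, map_one]
  letI := alg f (restr T U.1)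
  exact map_one (Algebra.norm Γ((restr T U.1).left, ⊤))

theorem nm_mul (T : Over X) (a b : Γ(P f T, ⊤)) : nm f T (a * b) = nm f T a * nm f T b := by
  refine ext_of_free f T _ _ fun U => ?_
  rw [map_mul, nm_incl, nm_incl, nm_incl, map_mul]
  letI := alg f (restr T U.1)
  exact map_mul (Algebra.norm Γ((restr T U.1).left, ⊤)) _ _

/-- The norm on units. -/
noncomputable def nmHom (T : Over X) : Γ(P f T, ⊤) →* Γ(T.left, ⊤) where
  toFun := nm f T
  map_one' := nm_one f T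
  map_mul' := nm_mul f T

/-- The norm on points of the multiplicative group. -/
noncomputable def nmPt (T : Over X) : ((Over.pullback f).obj T ⟶ Red.Gm X') →* (T ⟶ Red.Gm X) :=
  (GmPts.equiv T).symm.toMonoidHom.comp ((Units.map (nmHom f T)).comp (GmPts.equiv _).toMonoidHom)

theorem gmFn_nmPt (T : Over X) (t' : (Over.pullback f).obj T ⟶ Red.Gm X') :
    Red.gmFn (nmPt f T t') = nm f T (Red.gmFn t') :=
  GmPts.gmFn_ptOfUnit _

theorem nmPt_comp {T₁ T₂ : Over X} (g : T₁ ⟶ T₂) (t' : (Over.pullback f).obj T₂ ⟶ Red.Gm X') :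
    nmPt f T₁ ((Over.pullback f).map g ≫ t') = g ≫ nmPt f T₂ t' := by
  refine GmPts.gmFn_injective ?_
  show Red.gmFn _ = Red.gmFn _
  rw [gmFn_nmPt, GmPts.gmFn_comp, GmPts.gmFn_comp, gmFn_nmPt, nm_map]

/-- The norm map. -/
noncomputable def normHom : CGrpSh3.pushGm Scheme.fppfPrecoverage f ⟶
    CGrpSh2.Gm Scheme.fppfPrecoverage X :=
  ⟨{ app := fun T => AddCommGrpCat.ofHom
      (AddMonoidHom.mk' (fun z => ULift.up (Additive.ofMul (nmPt f T.unop z.down.toMul)))
        (fun z w => congrArg (fun t => ULift.up (Additive.ofMul t))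
          (map_mul (nmPt f T.unop) z.down.toMul w.down.toMul)))
     naturality := fun T₁ T₂ g => AddCommGrpCat.ext fun z =>
       congrArg (fun t => ULift.up (Additive.ofMul t)) (nmPt_comp f g.unop z.down.toMul) }⟩

theorem isNormMap_normHom : CGrpSh3.IsNormMap Scheme.fppfPrecoverage f (normHom f) := by
  intro T _ inst _ _ halg t'
  obtain rfl : inst = alg f T := Algebra.algebra_ext _ _ halg
  rw [CGrpSh3.normPt_def]
  show Red.gmFn (nmPt f T t') = _
  have h := nm_map_free f (𝟙 T) ⟨inferInstance, inferInstance, inferInstance⟩ (Red.gmFn t')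
  rw [pm_id] at h
  rw [gmFn_nmPt]
  exact h

end

end Groth.Agent.NormMap
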